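import Groth.Agent.FinHomLib.MorS
import Groth.Agent.HilbPtsLib.Cover
import Groth.Prelude.Def_Mor2
import Mathlib.AlgebraicGeometry.Sites.Representability
import Mathlib.AlgebraicGeometry.PullbackCarrier

/-!
# The functor of morphisms from a finite locally free scheme is representable
-/

set_option autoImplicit false
set_option linter.style.haveILetI false
set_option linter.unusedSectionVars false
set_option backward.isDefEq.respectTransparency false
set_option backward.isDefEq.respectTransparency.types false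

universe u

open CategoryTheory CategoryTheory.Limits AlgebraicGeometry Opposite TopologicalSpace

noncomputable section

namespace MorRep

variable {Z X S : Scheme.{u}} (g : Z ⟶ S) (f : X ⟶ S)

/-- A base point together with a family of morphisms. -/
structure MPt (T : Scheme.{u}) : Type u where
  /-- The base point. -/
  t : T ⟶ S
  /-- The family of morphisms. -/
  b : pullback t g ⟶ X
  w : b ≫ f = pullback.fst t g ≫ t

/-- Base change of the source. -/
def mz {T T' : Scheme.{u}} {t : T ⟶ S} {t' : T' ⟶ S} (h : T' ⟶ T) (e : h ≫ t = t') :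
    pullback t' g ⟶ pullback t g :=
  pullback.lift (pullback.fst t' g ≫ h) (pullback.snd t' g) (by rw [Category.assoc, e]; exact pullback.condition)

@[reassoc (attr := simp)]
theorem mz_fst {T T' : Scheme.{u}} {t : T ⟶ S} {t' : T' ⟶ S} (h : T' ⟶ T) (e : h ≫ t = t') :
    mz g h e ≫ pullback.fst t g = pullback.fst t' g ≫ h := pullback.lift_fst _ _ _

@[reassoc (attr := simp)]
theorem mz_snd {T T' : Scheme.{u}} {t : T ⟶ S} {t' : T' ⟶ S} (h : T' ⟶ T) (e : h ≫ t = t') :
    mz g h e ≫ pullback.snd t g = pullback.snd t' g := pullback.lift_snd _ _ _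

variable {g f}

theorem MPt.comp_eq {T : Scheme.{u}} {P Q : MPt g f T} (h : P = Q) {W : Scheme.{u}} (z : W ⟶ pullback P.t g)
    (z' : W ⟶ pullback Q.t g) (h1 : z ≫ pullback.fst _ _ = z' ≫ pullback.fst _ _)
    (h2 : z ≫ pullback.snd _ _ = z' ≫ pullback.snd _ _) : z ≫ P.b = z' ≫ Q.b := by
  subst h
  rw [pullback.hom_ext h1 h2]

theorem MPt.ext' {T : Scheme.{u}} {P Q : MPt g f T} (e : P.t = Q.t)
    (h : P.b = mz g (𝟙 T) (by rw [Category.id_comp, e]) ≫ Q.b) : P = Q := by
  obtain ⟨t, b, w⟩ := P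
  obtain ⟨t', b', w'⟩ := Q
  cases e
  have : mz g (𝟙 T) (Category.id_comp t) = 𝟙 _ := pullback.hom_ext (by simp) (by simp)
  simp only at h
  rw [this, Category.id_comp] at h
  subst h
  rfl

/-- Base change of a point. -/
def MPt.map {T T' : Scheme.{u}} (h : T' ⟶ T) (P : MPt g f T) : MPt g f T' where
  t := h ≫ P.t
  b := mz g h rfl ≫ P.b
  w := by rw [Category.assoc, P.w, mz_fst_assoc]

theorem MPt.map_id {T : Scheme.{u}} (P : MPt g f T) : P.map (𝟙 T) = P :=
  MPt.ext' (Category.id_comp _) (by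
    show mz g (𝟙 T) rfl ≫ P.b = _
    rfl)

theorem MPt.map_map {T T' T'' : Scheme.{u}} (h : T' ⟶ T) (h' : T'' ⟶ T') (P : MPt g f T) :
    (P.map h).map h' = P.map (h' ≫ h) :=
  MPt.ext' (Category.assoc _ _ _).symm (by
    show mz g h' rfl ≫ mz g h rfl ≫ P.b = mz g (𝟙 _) _ ≫ mz g (h' ≫ h) rfl ≫ P.b
    simp only [← Category.assoc]
    congr 1
    exact pullback.hom_ext (by simp [MPt.map]) (by simp [MPt.map]))

variable (g f) in
/-- The functor of base points with families of morphisms. -/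
def morT : Scheme.{u}ᵒᵖ ⥤ Type u where
  obj T := MPt g f T.unop
  map h := TypeCat.ofHom fun P => P.map h.unop
  map_id T := by
    ext P
    exact P.map_id
  map_comp h h' := by
    ext P
    exact (P.map_map _ _).symm

theorem MPt.exists_glue {T : Scheme.{u}} (𝒰 : T.OpenCover) (a : ∀ i, MPt g f (𝒰.X i))
    (h : ∀ i j, (a i).map (pullback.fst (𝒰.f i) (𝒰.f j)) = (a j).map (pullback.snd (𝒰.f i) (𝒰.f j))) :
    ∃ Q : MPt g f T, (∀ i, Q.map (𝒰.f i) = a i) ∧ ∀ Q' : MPt g f T, (∀ i, Q'.map (𝒰.f i) = a i) → Q' = Q := by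
  let t := 𝒰.glueMorphisms (fun i => (a i).t) (fun i j => congrArg MPt.t (h i j))
  have ht : ∀ i, 𝒰.f i ≫ t = (a i).t := fun i => 𝒰.ι_glueMorphisms _ _ i
  let C := Scheme.Pullback.openCoverOfLeft 𝒰 t g
  have hC : ∀ i, C.f i = mz g (𝒰.f i) rfl := fun i => by
    refine pullback.hom_ext ?_ ?_ <;> simp [C, Scheme.Pullback.openCoverOfLeft, mz]
  let b' : ∀ i, pullback (𝒰.f i ≫ t) g ⟶ X := fun i =>
    mz g (𝟙 _) (by rw [Category.id_comp, ht]) ≫ (a i).b
  let b := C.glueMorphisms b' (fun i j => by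
    have c1 : pullback.fst (C.f i) (C.f j) ≫ C.f i = pullback.snd (C.f i) (C.f j) ≫ C.f j := pullback.condition
    have hf : ∀ i, C.f i ≫ pullback.fst t g = pullback.fst _ g ≫ 𝒰.f i := fun i => by rw [hC]; simp
    have hs : ∀ i, C.f i ≫ pullback.snd t g = pullback.snd _ g := fun i => by rw [hC]; simp
    have c2 := congrArg (· ≫ pullback.fst t g) c1
    have c3 := congrArg (· ≫ pullback.snd t g) c1
    simp only [Category.assoc, hf, hs] at c2 c3
    let r : pullback (C.f i) (C.f j) ⟶ pullback (𝒰.f i) (𝒰.f j) :=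
      pullback.lift (pullback.fst _ _ ≫ pullback.fst _ g) (pullback.snd _ _ ≫ pullback.fst _ g)
        (by simpa [Category.assoc] using c2)
    let z : pullback (C.f i) (C.f j) ⟶ pullback (pullback.fst (𝒰.f i) (𝒰.f j) ≫ (a i).t) g :=
      pullback.lift r (pullback.fst _ _ ≫ pullback.snd _ g) (by
        rw [← ht, pullback.lift_fst_assoc, Category.assoc, Category.assoc, pullback.condition])
    let z' : pullback (C.f i) (C.f j) ⟶ pullback (pullback.snd (𝒰.f i) (𝒰.f j) ≫ (a j).t) g :=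
      pullback.lift r (pullback.snd _ _ ≫ pullback.snd _ g) (by
        rw [← ht, pullback.lift_snd_assoc, Category.assoc, Category.assoc, pullback.condition])
    have e := MPt.comp_eq (h i j) z z' (by simp [MPt.map, z, z']) (by
      simp only [MPt.map, z, z', pullback.lift_snd]
      exact c3)
    simp only [MPt.map, b', ← Category.assoc] at e ⊢
    refine Eq.trans ?_ (e.trans ?_) <;> congr 1 <;>
      exact pullback.hom_ext (by simp [z, z', r]) (by simp [z, z']))
  have hb : ∀ i, mz g (𝒰.f i) rfl ≫ b = b' i := fun i => by rw [← hC]; exact C.ι_glueMorphisms _ _ i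
  refine ⟨⟨t, b, C.hom_ext _ _ fun i => ?_⟩, fun i => MPt.ext' (ht i) (hb i), fun Q' hQ' => ?_⟩
  · rw [hC, reassoc_of% hb, mz_fst_assoc]
    simp only [b', Category.assoc]
    rw [(a i).w, mz_fst_assoc, ← ht i, Category.id_comp]
  · have e : Q'.t = t := 𝒰.hom_ext _ _ fun i => by
      rw [ht i, ← congrArg MPt.t (hQ' i)]
      rfl
    refine MPt.ext' e ((Scheme.Pullback.openCoverOfLeft 𝒰 Q'.t g).hom_ext _ _ fun i => ?_)
    have hC' : (Scheme.Pullback.openCoverOfLeft 𝒰 Q'.t g).f i = mz g (𝒰.f i) rfl := by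
      refine pullback.hom_ext ?_ ?_ <;> simp [Scheme.Pullback.openCoverOfLeft, mz]
    rw [hC']
    change 𝒰.I₀ at i
    have e1 : (mz g (𝒰.f i) rfl : pullback (𝒰.f i ≫ Q'.t) g ⟶ pullback Q'.t g) ≫ Q'.b =
        mz g (𝟙 (𝒰.X i)) (by rw [Category.id_comp]; exact (congrArg MPt.t (hQ' i)).symm) ≫ (a i).b := by
      have := MPt.comp_eq (hQ' i) (𝟙 _) (mz g (𝟙 (𝒰.X i))
        (by rw [Category.id_comp]; exact (congrArg MPt.t (hQ' i)).symm)) (by simp [MPt.map]) (by simp [MPt.map])
      simpa [MPt.map] using this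
    have e2 : (mz g (𝒰.f i) rfl : pullback (𝒰.f i ≫ Q'.t) g ⟶ pullback Q'.t g) ≫
        mz g (𝟙 T) (by rw [Category.id_comp, e] : 𝟙 T ≫ t = Q'.t) =
        mz g (𝟙 (𝒰.X i)) (by rw [Category.id_comp, e] : 𝟙 (𝒰.X i) ≫ 𝒰.f i ≫ t = 𝒰.f i ≫ Q'.t) ≫
          mz g (𝒰.f i) rfl := pullback.hom_ext (by simp) (by simp)
    rw [e1, reassoc_of% e2, hb]
    simp only [b', ← Category.assoc]
    congr 1
    exact pullback.hom_ext (by simp) (by simp)

theorem isSheaf_morT : Presheaf.IsSheaf Scheme.zariskiTopology (morT g f) := by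
  rw [isSheaf_iff_isSheaf_of_type, Precoverage.isSheaf_toGrothendieck_iff_of_isStableUnderBaseChange_of_small.{u}]
  intro T (𝒰 : T.OpenCover)
  refine (Presieve.isSheafFor_arrows_iff _ _).2 fun a₀ ha₀ => ?_
  obtain ⟨Q, hQ, hQ'⟩ := MPt.exists_glue (g := g) (f := f) 𝒰 a₀ fun i j => ha₀ i j _ _ _ pullback.condition
  exact ⟨Q, hQ, hQ'⟩

section chart

variable {V : S.Opens} {U : X.Opens}

/-- Restricting the source to a chart of the base. -/
def cv {T : Scheme.{u}} {t : T ⟶ S} (τ : T ⟶ V) (e : τ ≫ V.ι = t) :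
    pullback t g ⟶ pullback τ (pullback.snd g V.ι) :=
  pullback.lift (pullback.fst t g) (pullback.lift (pullback.snd t g) (pullback.fst t g ≫ τ)
    (by rw [Category.assoc, e]; exact pullback.condition.symm)) (pullback.lift_snd _ _ _).symm

/-- The inverse of the restriction. -/
def cvi {T : Scheme.{u}} {t : T ⟶ S} (τ : T ⟶ V) (e : τ ≫ V.ι = t) :
    pullback τ (pullback.snd g V.ι) ⟶ pullback t g :=
  pullback.lift (pullback.fst _ _) (pullback.snd _ _ ≫ pullback.fst _ _) (by
    rw [Category.assoc, pullback.condition, ← e, pullback.condition_assoc])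

@[reassoc (attr := simp)]
theorem cvi_fst {T : Scheme.{u}} {t : T ⟶ S} (τ : T ⟶ V) (e : τ ≫ V.ι = t) :
    cvi τ e ≫ pullback.fst t g = pullback.fst τ (pullback.snd g V.ι) := pullback.lift_fst _ _ _

@[reassoc (attr := simp)]
theorem cv_fst {T : Scheme.{u}} {t : T ⟶ S} (τ : T ⟶ V) (e : τ ≫ V.ι = t) :
    cv (g := g) τ e ≫ pullback.fst _ _ = pullback.fst t g := pullback.lift_fst _ _ _

@[reassoc (attr := simp)]
theorem cvi_cv {T : Scheme.{u}} {t : T ⟶ S} (τ : T ⟶ V) (e : τ ≫ V.ι = t) :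
    cvi (g := g) τ e ≫ cv τ e = 𝟙 _ := by
  refine pullback.hom_ext (by simp) ?_
  rw [Category.assoc, Category.id_comp, cv, pullback.lift_snd]
  refine pullback.hom_ext ?_ ?_
  · simp [cvi]
  · simp [pullback.condition]

/-- A chart of the functor with its universal point. -/
theorem exists_chartPoint [IsFinite g] [Flat g] [LocallyOfFinitePresentation g] (hV : IsAffineOpen V)
    (hU : IsAffineOpen U) (e : U ≤ f ⁻¹ᵁ V) :
    ∃ (W : Scheme.{u}) (P : MPt g f W), (Set.range P.t ⊆ V ∧ Set.range P.b ⊆ U) ∧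
      ∀ (T : Scheme.{u}) (Q : MPt g f T),
        (Set.range Q.t ⊆ V ∧ Set.range Q.b ⊆ U) → ∃! a : T ⟶ W, P.map a = Q := by
  haveI : IsAffine V.toScheme := hV
  haveI : IsAffine U.toScheme := hU
  haveI : IsFinite (pullback.snd g V.ι) := inferInstance
  haveI : Flat (pullback.snd g V.ι) := inferInstance
  haveI : LocallyOfFinitePresentation (pullback.snd g V.ι) := inferInstance
  haveI : IsAffineHom (f.resLE V U e) := isAffineHom_of_isAffine _
  obtain ⟨W, -, ⟨R⟩⟩ := Groth.Agent.FinHom.exists_morS_rep (pullback.snd g V.ι) (f.resLE V U e)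
  let ev := R.homEquiv (𝟙 W)
  have hev : ev.left ≫ f.resLE V U e = pullback.fst W.hom (pullback.snd g V.ι) ≫ W.hom :=
    (Over.w ev).trans pullback.condition.symm
  have hR : ∀ {T : Scheme.{u}} {τ : T ⟶ V} (v : Over.mk τ ⟶ W),
      (R.homEquiv v).left = mz (pullback.snd g V.ι) v.left (Over.w v) ≫ ev.left := fun {T τ} v => by
    have h1 := R.homEquiv_comp v (𝟙 W)
    rw [Category.comp_id] at h1
    rw [h1]
    show ((Over.map _).map ((Over.pullback _).map v)).left ≫ ev.left = _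
    congr 1
  refine ⟨W.left, ⟨W.hom ≫ V.ι, cv W.hom rfl ≫ ev.left ≫ U.ι, ?_⟩, ⟨?_, ?_⟩, fun T Q hQ => ?_⟩
  · rw [Category.assoc, Category.assoc, ← Scheme.Hom.resLE_comp_ι f e, reassoc_of% hev, cv_fst_assoc]
  · rintro _ ⟨w, rfl⟩
    exact (W.hom w).2
  · rintro _ ⟨w, rfl⟩
    exact ((cv W.hom rfl ≫ ev.left) w).2
  let τ : T ⟶ V := IsOpenImmersion.lift V.ι Q.t (by rw [Scheme.Opens.range_ι]; exact hQ.1)
  have hτ : τ ≫ V.ι = Q.t := IsOpenImmersion.lift_fac _ _ _
  let β : pullback τ (pullback.snd g V.ι) ⟶ U := IsOpenImmersion.lift U.ι (cvi τ hτ ≫ Q.b) (by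
    rw [Scheme.Opens.range_ι]
    rintro _ ⟨z, rfl⟩
    exact hQ.2 ⟨_, rfl⟩)
  have hβ : β ≫ U.ι = cvi τ hτ ≫ Q.b := IsOpenImmersion.lift_fac _ _ _
  have hβw : β ≫ f.resLE V U e = pullback.snd τ (pullback.snd g V.ι) ≫ pullback.snd g V.ι := by
    rw [← cancel_mono V.ι, Category.assoc, Scheme.Hom.resLE_comp_ι, reassoc_of% hβ, Q.w, cvi_fst_assoc,
      ← pullback.condition, Category.assoc, hτ]
  let φ : (Over.map (pullback.snd g V.ι)).obj ((Over.pullback (pullback.snd g V.ι)).obj (Over.mk τ)) ⟶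
      Over.mk (f.resLE V U e) := Over.homMk β hβw
  let v := R.homEquiv.symm φ
  have hv : (R.homEquiv v).left = β := by simp [v, φ]
  replace hv := (hR v).symm.trans hv
  refine ⟨v.left, MPt.ext' ?_ ?_, fun a ha => ?_⟩
  · show v.left ≫ W.hom ≫ V.ι = Q.t
    rw [← Category.assoc, Over.w v]; exact hτ
  · show mz g v.left rfl ≫ cv W.hom rfl ≫ ev.left ≫ U.ι = mz g (𝟙 T) _ ≫ Q.b
    have h2 : mz g (𝟙 T) (by rw [Category.id_comp, ← Category.assoc, Over.w v]; exact hτ.symm) =
        cv (t := v.left ≫ W.hom ≫ V.ι) τ (by rw [← Category.assoc, Over.w v]) ≫ cvi τ hτ := by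
      refine pullback.hom_ext (by simp) ?_ <;> simp [cv, cvi]
    rw [h2, Category.assoc, ← hβ, ← hv]
    simp only [← Category.assoc]
    congr 2
    refine pullback.hom_ext (by simp [cv]) ?_
    refine pullback.hom_ext (by simp [cv]) ?_
    simp [cv]
  · have ht : a ≫ W.hom = τ := by
      rw [← cancel_mono V.ι, hτ, Category.assoc]
      exact congrArg MPt.t ha
    let v' : Over.mk τ ⟶ W := Over.homMk a ht
    have : R.homEquiv v' = φ := by
      refine Over.OverMorphism.ext ?_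
      refine (hR v').trans ?_
      show _ = β
      rw [← cancel_mono U.ι, hβ]
      have := MPt.comp_eq ha
        (pullback.lift (pullback.fst τ (pullback.snd g V.ι)) (pullback.snd _ _ ≫ pullback.fst _ _) (by
          show _ ≫ a ≫ W.hom ≫ V.ι = _
          rw [reassoc_of% ht, pullback.condition_assoc, Category.assoc, pullback.condition]))
        (cvi τ hτ) (by simp [MPt.map]) (by simp [MPt.map, cvi])
      rw [← this]
      simp only [MPt.map, ← Category.assoc]
      congr 2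
      refine pullback.hom_ext (by simp [cv, v', mz]) ?_
      refine pullback.hom_ext ?_ ?_
      · simp [cv, v', mz]
      · simp [cv, v', mz, ht, pullback.condition]
    exact congrArg CommaMorphism.left ((R.homEquiv.symm_apply_apply v').symm.trans (congrArg R.homEquiv.symm this))

theorem mem_range_map {T T' : Scheme.{u}} (P : MPt g f T) (h : T' ⟶ T) (hP : Set.range (P.map h).b ⊆ U) {x : T'}
    (z : ↥(pullback P.t g)) (hz : pullback.fst P.t g z = h x) : P.b z ∈ U := by
  have sq : IsPullback (mz g h rfl : pullback (h ≫ P.t) g ⟶ pullback P.t g) (pullback.fst _ g) (pullback.fst P.t g) h :=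
    IsPullback.of_right (h₁₂ := pullback.snd P.t g) (h₂₂ := P.t)
      (by simpa using (IsPullback.of_hasPullback (h ≫ P.t) g).flip) (mz_fst g h rfl)
      (IsPullback.of_hasPullback P.t g).flip
  obtain ⟨w, hw, -⟩ := Scheme.exists_preimage_of_isPullback sq z x hz
  exact hP ⟨w, by rw [← hw]; exact Scheme.Hom.comp_apply (mz g h rfl) P.b w⟩

end chart

/-- The indices of the charts. -/
abbrev Idx (f : X ⟶ S) : Type u := Σ V : S.affineOpens, {U : X.affineOpens // (U : X.Opens) ≤ f ⁻¹ᵁ V}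

/-- The functor is representable when finitely many points of a fibre lie in an affine open. -/
theorem isRepresentable_morS [IsFinite g] [Flat g] [LocallyOfFinitePresentation g]
    (hAF : ∀ (s : S) (d : ℕ) (x : Fin d → X), (∀ k, f (x k) = s) → ∃ U : X.Opens, IsAffineOpen U ∧ ∀ k, x k ∈ U) :
    (Flatn.morS g f).IsRepresentable := by
  classical
  choose W P hP hW using fun i : Idx f => exists_chartPoint (g := g) i.1.2 i.2.1.2 i.2.2
  let F : Sheaf Scheme.zariskiTopology.{u} (Type u) := ⟨morT g f, isSheaf_morT⟩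
  let c : ∀ i, yoneda.obj (W i) ⟶ F.1 := fun i =>
    yonedaEquiv.symm (show (morT g f).obj (op (W i)) from P i)
  have hc : ∀ i {T : Scheme.{u}} (a : T ⟶ W i), (c i).app (op T) a = (P i).map a := fun i T a =>
    yonedaEquiv_symm_app_apply (F := morT g f) _ (op T) a
  let O : ∀ (_ : Idx f) {T : Scheme.{u}} (_ : MPt g f T), T.Opens := fun i T Q =>
    Q.t ⁻¹ᵁ i.1.1 ⊓ ⟨(pullback.fst Q.t g '' (Q.b ⁻¹' (i.2.1.1 : Set X)ᶜ))ᶜ,
      ((pullback.fst Q.t g).isClosedMap _ (i.2.1.1.2.isClosed_compl.preimage Q.b.continuous)).isOpen_compl⟩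
  have hlift : ∀ (i : Idx f) {T : Scheme.{u}} (Q : MPt g f T),
      ∃ a : (O i Q).toScheme ⟶ W i, (P i).map a = Q.map (O i Q).ι := fun i T Q =>
    (hW i _ (Q.map (O i Q).ι) ⟨by rintro _ ⟨w, rfl⟩; exact w.2.1, by
      rintro _ ⟨w, rfl⟩
      show Q.b (mz g (O i Q).ι rfl w) ∈ i.2.1.1
      by_contra hb
      refine (pullback.fst ((O i Q).ι ≫ Q.t) g w).2.2 ⟨_, hb, ?_⟩
      rw [← Scheme.Hom.comp_apply, mz_fst]
      rfl⟩).exists
  have hopen : ∀ i, IsOpenImmersion.presheaf (c i) := fun i => MorphismProperty.relative.of_exists fun T q => by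
    let Q : MPt g f T := yonedaEquiv q
    obtain ⟨a, ha⟩ := hlift i Q
    have hq : ∀ (Y : Scheme.{u}) (h : Y ⟶ T), q.app (op Y) h = Q.map h := fun Y h =>
      (map_yonedaEquiv q h).symm
    refine ⟨(O i Q).toScheme, yoneda.map a, (O i Q).ι, ?_, inferInstanceAs (IsOpenImmersion (O i Q).ι)⟩
    refine IsPullback.of_forall_isPullback_app fun Y => ?_
    rw [Types.isPullback_iff]
    refine ⟨?_, ?_, ?_⟩
    · ext (h : Y.unop ⟶ (O i Q).toScheme)
      show (c i).app Y (h ≫ a) = q.app Y (h ≫ (O i Q).ι)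
      refine (hc i (h ≫ a)).trans (Eq.trans ?_ (hq Y.unop (h ≫ (O i Q).ι)).symm)
      rw [← MPt.map_map, ha, MPt.map_map]
    · rintro x₁ x₂ ⟨-, h2⟩
      exact (cancel_mono (O i Q).ι).1 (show x₁ ≫ (O i Q).ι = x₂ ≫ (O i Q).ι from h2)
    · intro (x₂ : Y.unop ⟶ W i) (x₃ : Y.unop ⟶ T) hx
      have hrel : (P i).map x₂ = Q.map x₃ := (hc i x₂).symm.trans (hx.trans (hq Y.unop x₃))
      have hcond : Set.range ((P i).map x₂).t ⊆ i.1.1 ∧ Set.range ((P i).map x₂).b ⊆ i.2.1.1 :=
        ⟨fun _ ⟨w, hw⟩ => hw ▸ (hP i).1 ⟨x₂ w, rfl⟩, fun _ ⟨w, hw⟩ => hw ▸ (hP i).2 ⟨_, rfl⟩⟩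
      have hr : Set.range x₃ ⊆ Set.range (O i Q).ι := by
        rw [Scheme.Opens.range_ι]
        rintro _ ⟨w, rfl⟩
        rw [hrel] at hcond
        refine ⟨hcond.1 ⟨w, rfl⟩, ?_⟩
        rintro ⟨z, hz, hzw⟩
        exact hz (mem_range_map Q x₃ hcond.2 z hzw)
      let l : Y.unop ⟶ (O i Q).toScheme := IsOpenImmersion.lift (O i Q).ι x₃ hr
      have hl : l ≫ (O i Q).ι = x₃ := IsOpenImmersion.lift_fac _ _ _
      refine ⟨l, ?_, hl⟩
      show l ≫ a = x₂
      refine (hW i _ _ hcond).unique ?_ rfl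
      rw [← MPt.map_map, ha, MPt.map_map, hl, hrel]
  haveI : Presheaf.IsLocallySurjective Scheme.zariskiTopology (Sigma.desc c) := ⟨fun {T} (Q : MPt g f T) => by
    have hcov : ∀ x : T, ∃ i, x ∈ O i Q := fun x => by
      obtain ⟨V, hV, hxV, -⟩ := exists_isAffineOpen_mem_and_subset (x := Q.t x) (U := ⊤) trivial
      have hfin : (pullback.fst Q.t g ⁻¹' {x}).Finite := (pullback.fst Q.t g).finite_preimage_singleton x
      haveI := hfin.fintype
      let e := (Fintype.equivFin (pullback.fst Q.t g ⁻¹' {x})).symm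
      let y : Fin (Fintype.card (pullback.fst Q.t g ⁻¹' {x})) → X := fun j => Q.b (e j).1
      have hy : ∀ j, f (y j) = Q.t x := fun j => by
        show f (Q.b (e j).1) = _
        rw [← Scheme.Hom.comp_apply, Q.w, Scheme.Hom.comp_apply, (e j).2]
      obtain ⟨U₀, hU₀, hyU⟩ := hAF _ _ y hy
      obtain ⟨U, hU, hUle, hyU'⟩ := HilbPts.exists_affine_le hU₀ (f ⁻¹ᵁ V) y hyU fun j => by
        show f (y j) ∈ V
        rw [hy j]; exact hxV
      refine ⟨⟨⟨V, hV⟩, ⟨⟨U, hU⟩, hUle⟩⟩, hxV, ?_⟩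
      rintro ⟨z, hz, hzx⟩
      refine hz ?_
      have := hyU' (e.symm ⟨z, hzx⟩)
      simpa [y] using this
    choose i hi using hcov
    let 𝒰 : T.OpenCover := T.openCoverOfIsOpenCover (fun x => O (i x) Q)
      (top_le_iff.1 fun x _ => Opens.mem_iSup.2 ⟨x, hi x⟩)
    refine GrothendieckTopology.superset_covering _ ?_ 𝒰.mem_grothendieckTopology
    rw [Sieve.generate_le_iff]
    rintro _ _ ⟨x⟩
    obtain ⟨a, ha⟩ := hlift (i x) Q
    refine ⟨(Sigma.ι (fun j => yoneda.obj (W j)) (i x)).app _ a, ?_⟩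
    show ((Sigma.ι _ (i x)) ≫ Sigma.desc c).app _ a = _
    rw [Sigma.ι_desc]
    exact (hc _ a).trans ha⟩
  obtain ⟨G, ⟨R⟩⟩ := (Scheme.LocalRepresentability.isRepresentable (F := F) hopen).has_representation
  let ξ : MPt g f G := R.homEquiv (𝟙 G)
  have hξ : ∀ {T : Scheme.{u}} (h : T ⟶ G), (R.homEquiv h : MPt g f T) = ξ.map h := fun {T} h => by
    have h1 := R.homEquiv_comp h (𝟙 G)
    rw [Category.comp_id] at h1
    exact h1
  let φ : ∀ T : Over S, (T ⟶ Over.mk ξ.t) → (Flatn.morS g f).obj (op T) := fun T v =>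
    Over.homMk (mz g v.left (Over.w v) ≫ ξ.b) (by
      show (mz g v.left (Over.w v) ≫ ξ.b) ≫ f = pullback.snd T.hom g ≫ g
      rw [Category.assoc, ξ.w]
      erw [mz_fst_assoc]
      rw [← pullback.condition]
      exact congrArg (pullback.fst T.hom g ≫ ·) (Over.w v))
  have hφ : ∀ T, Function.Bijective (φ T) := fun T => by
    refine ⟨fun v v' h => ?_, fun b => ?_⟩
    · refine Over.OverMorphism.ext (R.homEquiv.injective ?_)
      rw [hξ, hξ]
      refine MPt.ext' ((Over.w v).trans (Over.w v').symm) ?_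
      show mz g v.left rfl ≫ ξ.b = mz g (𝟙 _) _ ≫ mz g v'.left rfl ≫ ξ.b
      have h' : mz g v.left (Over.w v) ≫ ξ.b = mz g v'.left (Over.w v') ≫ ξ.b := congrArg CommaMorphism.left h
      have e1 : mz g v.left rfl = mz g (𝟙 T.left) (by rw [Category.id_comp]; exact (Over.w v).symm) ≫
          mz g v.left (Over.w v) := pullback.hom_ext (by simp) (by simp)
      rw [e1, Category.assoc, h']
      simp only [← Category.assoc]
      congr 1
      exact pullback.hom_ext (by simp) (by simp)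
    · let Q : MPt g f T.left := ⟨T.hom, b.left, (Over.w b).trans pullback.condition.symm⟩
      obtain ⟨h, hh⟩ := R.homEquiv.surjective Q
      rw [hξ] at hh
      refine ⟨Over.homMk h (congrArg MPt.t hh), Over.OverMorphism.ext ?_⟩
      show mz g h (congrArg MPt.t hh) ≫ ξ.b = b.left
      have := MPt.comp_eq hh (mz g (𝟙 T.left) (by rw [Category.id_comp]; exact congrArg MPt.t hh)) (𝟙 _)
        (by simp [MPt.map, Q]) (by simp [MPt.map, Q])
      replace this := this.trans (Category.id_comp _)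
      refine Eq.trans ?_ this
      simp only [MPt.map, ← Category.assoc]
      congr 1
      exact pullback.hom_ext (by simp) (by simp)
  refine ⟨Over.mk ξ.t, ⟨{ homEquiv := fun {T} => Equiv.ofBijective _ (hφ T), homEquiv_comp := fun {T T'} a v => ?_ }⟩⟩
  refine Over.OverMorphism.ext ?_
  show mz g (a ≫ v).left _ ≫ ξ.b = ((Over.map g).map ((Over.pullback g).map a)).left ≫ mz g v.left _ ≫ ξ.b
  simp only [← Category.assoc]
  congr 1
  refine pullback.hom_ext ?_ ?_ <;> simp [mz]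

end MorRep

end
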